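import Cfsg.Agent.Lib.Sporadic.J3Data.J3TableChecks
import Cfsg.Agent.Lib.Sporadic.J3Data.J3CertG

/-!
# Relators act trivially

Machine-generated data and the kernel checks on it.
-/

set_option maxRecDepth 100000

namespace CfsgLib.Sporadic.CosetCert.J3Data

theorem table_word0 :
    table.fixF [flat0, flat0] 0 6156 = true := by decide +kernel

theorem table_word1 :
    table.fixF [flat1, flat0, flat1, flat0, flat1, flat0, flat1, flat0, flat1, flat0, flat1, flat0, flat1, flat0, flat1, flat0, flat1, flat0, flat1, flat0, flat1, flat0, flat1, flat0, flat1, flat0, flat1, flat0, flat1, flat0, flat1, flat0, flat1, flat0] 0 6156 = true := by decide +kernel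

theorem table_word2 :
    table.fixF [flat2, flat0, flat2, flat0] 0 6156 = true := by decide +kernel

theorem table_word3 :
    table.fixF [flat3, flat0, flat3, flat0] 0 6156 = true := by decide +kernel

theorem table_word4 :
    table.fixF [flat1, flat1] 0 6156 = true := by decide +kernel

theorem table_word5 :
    table.fixF [flat2, flat1, flat2, flat1, flat2, flat1, flat2, flat1] 0 6156 = true := by decide +kernel

theorem table_word6 :
    table.fixF [flat3, flat1, flat3, flat1, flat3, flat1, flat3, flat1, flat3, flat1] 0 6156 = true := by decide +kernel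

theorem table_word7 :
    table.fixF [flat2, flat2] 0 6156 = true := by decide +kernel

theorem table_word8 :
    table.fixF [flat3, flat2, flat3, flat2] 0 6156 = true := by decide +kernel

theorem table_word9 :
    table.fixF [flat3, flat3] 0 6156 = true := by decide +kernel

theorem table_word10 :
    table.fixF [flat0, flat1, flat0, flat1, flat0, flat1, flat2, flat1, flat0, flat1, flat2, flat1, flat0, flat1, flat2, flat1, flat0, flat1, flat0, flat1, flat2, flat0, flat1, flat2, flat0, flat1, flat2] 0 6156 = true := by decide +kernel

theorem table_word11 :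
    table.fixF [flat0, flat1, flat0, flat1, flat0, flat1, flat0, flat2, flat1, flat0, flat1, flat0, flat1, flat0, flat2, flat1, flat0, flat1, flat0, flat1, flat2, flat0, flat1, flat0, flat1, flat0, flat1, flat2] 0 6156 = true := by decide +kernel

theorem table_word12 :
    table.fixF [flat3, flat1, flat0, flat2, flat1, flat0, flat2, flat1, flat2, flat0, flat1, flat2, flat0, flat1, flat2, flat0, flat1, flat3, flat0, flat2] 0 6156 = true := by decide +kernel

theorem table_word13 :
    table.fixF [flat3, flat1, flat2, flat1, flat3, flat1, flat2, flat1, flat3, flat1, flat2, flat1, flat3, flat1, flat2, flat1, flat3, flat1, flat2, flat1] 0 6156 = true := by decide +kernel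

theorem table_word14 :
    table.fixF [flat3, flat1, flat2, flat1, flat0, flat3, flat1, flat2, flat1, flat3, flat0, flat1, flat2, flat1, flat3, flat0, flat1, flat2, flat1, flat0, flat2] 0 6156 = true := by decide +kernel

theorem table_word15 :
    table.fixF [flat3, flat1, flat0, flat3, flat1, flat2, flat1, flat0, flat3, flat1, flat3, flat0, flat1, flat2, flat1, flat3, flat0, flat1, flat3, flat0, flat1, flat2, flat1, flat0] 0 6156 = true := by decide +kernel

theorem table_word16 :
    table.fixF [flat3, flat1, flat0, flat2, flat1, flat0, flat1, flat0, flat1, flat2, flat1, flat0, flat1, flat3, flat1, flat0, flat1, flat2, flat1, flat0, flat1, flat0, flat1, flat0, flat2, flat1] 0 6156 = true := by decide +kernel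

theorem table_word17 :
    table.fixF [flat3, flat1, flat0, flat1, flat0, flat2, flat1, flat0, flat1, flat3, flat1, flat0, flat1, flat2, flat0, flat1, flat0, flat1, flat3, flat1, flat0, flat1, flat0, flat2, flat1, flat0, flat1] 0 6156 = true := by decide +kernel

theorem table_word18 :
    table.fixF [flat3, flat1, flat0, flat3, flat1, flat0, flat3, flat1, flat0, flat3, flat1, flat3, flat0, flat1, flat3, flat0, flat1, flat3, flat0, flat1, flat3, flat0, flat1, flat3, flat0, flat1, flat0] 0 6156 = true := by decide +kernel

theorem table_word19 :
    table.fixF [flat3, flat1, flat2, flat3, flat1, flat2, flat1, flat0, flat3, flat1, flat0, flat1, flat0, flat1, flat3, flat2, flat1, flat3, flat1, flat2, flat1, flat3, flat0, flat2, flat1, flat0, flat1, flat0, flat1, flat2] 0 6156 = true := by decide +kernel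

theorem table_word20 :
    table.fixF [flat3, flat1, flat0, flat1, flat0, flat2, flat3, flat1, flat0, flat1, flat0, flat2, flat3, flat1, flat0, flat1, flat3, flat2, flat0, flat1, flat0, flat1, flat3, flat0, flat2, flat1, flat0, flat1, flat0, flat2] 0 6156 = true := by decide +kernel

theorem table_word21 :
    table.fixF [flat3, flat1, flat0, flat1, flat3, flat1, flat2, flat1, flat0, flat1, flat0, flat2, flat1, flat3, flat1, flat3, flat1, flat0, flat1, flat3, flat1, flat3, flat2, flat1, flat3, flat2, flat1, flat0, flat1, flat0, flat2] 0 6156 = true := by decide +kernel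

theorem table_word22 :
    table.fixF [flat3, flat1, flat0, flat2, flat3, flat1, flat0, flat1, flat0, flat1, flat0, flat1, flat3, flat1, flat2, flat3, flat0, flat1, flat3, flat2, flat0, flat1, flat2, flat0, flat1, flat3, flat0, flat1, flat3, flat0, flat1] 0 6156 = true := by decide +kernel

theorem table_word23 :
    table.fixF [flat3, flat1, flat0, flat2, flat1, flat0, flat3, flat1, flat0, flat1, flat2, flat1, flat0, flat1, flat3, flat0, flat1, flat2, flat0, flat1, flat3, flat2, flat1, flat0, flat2, flat1, flat0, flat1, flat0, flat2, flat1, flat2] 0 6156 = true := by decide +kernel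

theorem word_lets : ∀ i < certG.nr, ∀ x ∈ PTab.unpack (certG.word i), x < table.nl := by
  decide +kernel

theorem table_relators : ∀ i < certG.nr, ∀ u < table.N,
    table.run (certG.word i).1 (certG.word i).2 u = u := by
  intro i hi u hu
  rw [PTab.run_eq_imgW, PTab.imgW_eq_runF table_flat _ (word_lets i hi) u hu]
  have hu' : u < 6156 := hu
  have hi' : i < 24 := hi
  match i, hi' with
  | 0, _ => exact PTab.fixF_spec table_word0 u (Nat.zero_le _) (by omega)
  | 1, _ => exact PTab.fixF_spec table_word1 u (Nat.zero_le _) (by omega)
  | 2, _ => exact PTab.fixF_spec table_word2 u (Nat.zero_le _) (by omega)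
  | 3, _ => exact PTab.fixF_spec table_word3 u (Nat.zero_le _) (by omega)
  | 4, _ => exact PTab.fixF_spec table_word4 u (Nat.zero_le _) (by omega)
  | 5, _ => exact PTab.fixF_spec table_word5 u (Nat.zero_le _) (by omega)
  | 6, _ => exact PTab.fixF_spec table_word6 u (Nat.zero_le _) (by omega)
  | 7, _ => exact PTab.fixF_spec table_word7 u (Nat.zero_le _) (by omega)
  | 8, _ => exact PTab.fixF_spec table_word8 u (Nat.zero_le _) (by omega)
  | 9, _ => exact PTab.fixF_spec table_word9 u (Nat.zero_le _) (by omega)
  | 10, _ => exact PTab.fixF_spec table_word10 u (Nat.zero_le _) (by omega)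
  | 11, _ => exact PTab.fixF_spec table_word11 u (Nat.zero_le _) (by omega)
  | 12, _ => exact PTab.fixF_spec table_word12 u (Nat.zero_le _) (by omega)
  | 13, _ => exact PTab.fixF_spec table_word13 u (Nat.zero_le _) (by omega)
  | 14, _ => exact PTab.fixF_spec table_word14 u (Nat.zero_le _) (by omega)
  | 15, _ => exact PTab.fixF_spec table_word15 u (Nat.zero_le _) (by omega)
  | 16, _ => exact PTab.fixF_spec table_word16 u (Nat.zero_le _) (by omega)
  | 17, _ => exact PTab.fixF_spec table_word17 u (Nat.zero_le _) (by omega)
  | 18, _ => exact PTab.fixF_spec table_word18 u (Nat.zero_le _) (by omega)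
  | 19, _ => exact PTab.fixF_spec table_word19 u (Nat.zero_le _) (by omega)
  | 20, _ => exact PTab.fixF_spec table_word20 u (Nat.zero_le _) (by omega)
  | 21, _ => exact PTab.fixF_spec table_word21 u (Nat.zero_le _) (by omega)
  | 22, _ => exact PTab.fixF_spec table_word22 u (Nat.zero_le _) (by omega)
  | 23, _ => exact PTab.fixF_spec table_word23 u (Nat.zero_le _) (by omega)
  | n + 24, h => exact absurd h (by omega)

end CfsgLib.Sporadic.CosetCert.J3Data
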