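import Cfsg.Agent.Lib.Sporadic.J3Data.J3Table

/-!
# The table checks

Machine-generated data and the kernel checks on it.
-/

set_option maxRecDepth 100000

namespace CfsgLib.Sporadic.CosetCert.J3Data

theorem table_flat0_0 : table.flatOK 0 flat0 0 3078 = true := by decide +kernel
theorem table_flat0_1 : table.flatOK 0 flat0 3078 3078 = true := by decide +kernel
theorem table_flat1_0 : table.flatOK 1 flat1 0 3078 = true := by decide +kernel
theorem table_flat1_1 : table.flatOK 1 flat1 3078 3078 = true := by decide +kernel
theorem table_flat2_0 : table.flatOK 2 flat2 0 3078 = true := by decide +kernel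
theorem table_flat2_1 : table.flatOK 2 flat2 3078 3078 = true := by decide +kernel
theorem table_flat3_0 : table.flatOK 3 flat3 0 3078 = true := by decide +kernel
theorem table_flat3_1 : table.flatOK 3 flat3 3078 3078 = true := by decide +kernel

theorem table_flat : ∀ x < table.nl, ∀ u < table.N,
    table.img x u = Nat.mod (Nat.shiftRight (flats.getD x 0) (Nat.mul u table.wb))
        (Nat.pow 2 table.wb) ∧ table.img x u < table.N := by
  intro x hx u hu
  change x < 4 at hx
  change u < 6156 at hu
  match x, hx with
  | 0, _ => exact range_split (PTab.flatOK_spec table_flat0_0) (PTab.flatOK_spec table_flat0_1) u (Nat.zero_le _) hu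
  | 1, _ => exact range_split (PTab.flatOK_spec table_flat1_0) (PTab.flatOK_spec table_flat1_1) u (Nat.zero_le _) hu
  | 2, _ => exact range_split (PTab.flatOK_spec table_flat2_0) (PTab.flatOK_spec table_flat2_1) u (Nat.zero_le _) hu
  | 3, _ => exact range_split (PTab.flatOK_spec table_flat3_0) (PTab.flatOK_spec table_flat3_1) u (Nat.zero_le _) hu
  | n + 4, h => exact absurd h (by omega)

theorem table_sq0 : table.fixF [flat0, flat0] 0 6156 = true := by decide +kernel
theorem table_sq1 : table.fixF [flat1, flat1] 0 6156 = true := by decide +kernel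
theorem table_sq2 : table.fixF [flat2, flat2] 0 6156 = true := by decide +kernel
theorem table_sq3 : table.fixF [flat3, flat3] 0 6156 = true := by decide +kernel

theorem table_gen : ∀ u, u < 6156 → ∀ x < table.nl,
    table.inv x < table.nl ∧ table.img x u < table.N ∧
      table.img (table.inv x) (table.img x u) = u := by
  intro u hu x hx
  have h4 : x < 4 := hx
  have hinv : table.inv x = x := by
    have : ∀ y < 4, table.inv y = y := by decide
    exact this x h4
  have hsq : PTab.runF table.wb [flats.getD x 0, flats.getD x 0] u = u := by
    match x, h4 with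
    | 0, _ => exact PTab.fixF_spec table_sq0 u (Nat.zero_le _) hu
    | 1, _ => exact PTab.fixF_spec table_sq1 u (Nat.zero_le _) hu
    | 2, _ => exact PTab.fixF_spec table_sq2 u (Nat.zero_le _) hu
    | 3, _ => exact PTab.fixF_spec table_sq3 u (Nat.zero_le _) hu
    | n + 4, h => exact absurd h (by omega)
  obtain ⟨e, hlt⟩ := table_flat x hx u hu
  rw [hinv]
  refine ⟨hx, hlt, ?_⟩
  rw [(table_flat x hx _ hlt).1, e]
  rw [PTab.runF_cons, PTab.runF_cons] at hsq
  exact hsq

end CfsgLib.Sporadic.CosetCert.J3Data
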