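import Cfsg.Agent.Lib.Sporadic.CosetCertGroup

/-!
# Coset enumeration certificate J3Data.certD

Machine-generated data and the kernel checks on it.
-/

set_option maxRecDepth 100000

namespace CfsgLib.Sporadic.CosetCert.J3Data

/-- Coset enumeration certificate `j3D`: 17 cosets, 17 nodes, 34 facts. -/
noncomputable def certD : Cert where
  N := 17
  M := 17
  nl := 2
  nr := 3
  fuel := 1
  vb := 8
  rb := 6
  iv := 0x210
  words := [(2, 0x0), (34, 0x101010101010101010101010101010101), (2, 0x11), (1, 0x0)]
  slots := (.leaf 0x884210f0001f0e8040000783dd0d0001b0c7038000683590b000170a6030000582d5090001308502800048251070000f064020000381cd050000b043018000281490300007022010000180c501000030010080000804100)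
  just := (.leaf 0x43c040480008007b0000000000002021cc000000000000000000000000000002001ac000000000000808630000000000000000000000000000008005b00000000000020214c0000000000000000000000000000020012c000000000000808430000000000000000000000000000008003b0000000000002020cc000000000000000000000000000002000ac000000000000808230000000000000000000000000000008001b00000000000020204c0000000000000000000000000000020002c0000000000008080300000000000000000000000000000000019)
  parent := (.leaf 0x2e02c02802602202001c01a01601401000e00a008004002000)

theorem certD_keys0 : certD.keysOK 0 51 = true := by decide +kernel
theorem certD_closed0 : certD.closedFrom 35 0 17 = true := by decide +kernel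

theorem certD_valid : certD.Valid :=
  valid_of
    (fun k hk => (keysOK_spec certD_keys0) k (Nat.zero_le _) hk)
    (fun u hu => ⟨35, (closedFrom_spec certD_closed0) u (Nat.zero_le _) hu⟩)
    (by decide +kernel) (by decide +kernel)

end CfsgLib.Sporadic.CosetCert.J3Data
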