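import Cfsg.Agent.Lib.Sporadic.CosetCertGroup

/-!
# Coset enumeration certificate J3Data.certT

Machine-generated data and the kernel checks on it.
-/

set_option maxRecDepth 100000

namespace CfsgLib.Sporadic.CosetCert.J3Data

/-- Coset enumeration certificate `j3T`: 1 cosets, 22 nodes, 73 facts. -/
noncomputable def certT : Cert where
  N := 1
  M := 22
  nl := 4
  nr := 24
  fuel := 4
  vb := 8
  rb := 7
  iv := 0x43210
  words := [(2, 0x0), (34, 0x101010101010101010101010101010101), (4, 0x202), (4, 0x303), (2, 0x11), (8, 0x12121212), (10, 0x1313131313), (2, 0x22), (4, 0x2323), (2, 0x33), (27, 0x210210210101210121012101010), (28, 0x2101010210101201010120101010), (20, 0x20310210210212012013), (20, 0x12131213121312131213), (21, 0x201210312103121301213), (24, 0x12103103121031301213013), (26, 0x12010101210131012101012013), (27, 0x101201013101021013101201013), (27, 0x10310310310310313013013013), (30, 0x210101203121312310101301213213), (30, 0x201012031010231013201013201013), (31, 0x2010123123131013131201012131013), (31, 0x1031031021023103213101010132013), (32, 0x21201012012310210310121013012013), (7, 0x1321210), (9, 0x13212100), (9, 0x113212101), (9, 0x213212102), (9, 0x313212103)]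
  slots := (.leaf 0x210500000000fc2c00037130000d03d98500008616b429705b10e000000000003d100000000230028090000000148580000000000130400000000901c00000000000d829a8a22076026000200100007c2a800c0003c08000074100001b088a00640978980005423100960997026428000240127110000ac48a810000240a44192881c0c70048c3d0870f010000ec10680900800000001d01930800000000501c702100078300000000820068303001f0d160b2400c05960a08005025c800c06120a381c10000000e08140c1810101)
  just := (.leaf 0x8340a000000000000000000021a000a4000000000000870540000000000a0000324000404298000000000001150a800020614c04280020800080873000000000000000000000000000180000d100000000000000000000002c0200008184b0000000000000000000424000c800000000000000000000000000000404218000000000000000000002060ec00000000000000000000000000141c000c80c50042080008103b0300001820000000005434083900000000000000000000020206c0000000000018281c0000000000206001040000000000818001900010a02800020604c0004084d80000000000010011600062617000000000000081013000000000000000000000c4402000000000000000000000000000000400098000000000106010820002040cc0000000000008006300020e0a80000000000000000000008080b00000000000060201000040c05800000000000000000000000000000804020000818430000000000000000000404000880018580400010300600020418c0000000000000000000010d0280000000000004080180000000000010005630040a1e80000000000000000000010100600000000000041c0a0000000000000000000000000000004000180000000000000000000000000000000000000000000)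
  parent := (.leaf 0x4403403602f03102a02702601101300e00d00b021007009008004003002001000)

theorem certT_keys0 : certT.keysOK 0 110 = true := by decide +kernel
theorem certT_closed0 : certT.closedFrom 74 0 1 = true := by decide +kernel

theorem certT_valid : certT.Valid :=
  valid_of
    (fun k hk => (keysOK_spec certT_keys0) k (Nat.zero_le _) hk)
    (fun u hu => ⟨74, (closedFrom_spec certT_closed0) u (Nat.zero_le _) hu⟩)
    (by decide +kernel) (by decide +kernel)

end CfsgLib.Sporadic.CosetCert.J3Data
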