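import Cfsg.Agent.Lib.Sporadic.J3Points
import Cfsg.Agent.Lib.Sporadic.CosetCertGroup

/-!
# The orbit of an isotropic line

Machine-generated chunks.
-/

set_option maxRecDepth 100000

open CfsgLib.Sporadic.CosetCert

namespace CfsgLib.Sporadic.J3Mat

theorem iso_edges0 :
    edgesFrom isoTab 18 43605 42918 lineStep 0 1500 = true := by decide +kernel

theorem iso_edges1 :
    edgesFrom isoTab 18 43605 42918 lineStep 1500 1500 = true := by decide +kernel

theorem iso_edges2 :
    edgesFrom isoTab 18 43605 42918 lineStep 3000 1500 = true := by decide +kernel

theorem iso_edges3 :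
    edgesFrom isoTab 18 43605 42918 lineStep 4500 1500 = true := by decide +kernel

theorem iso_edges4 :
    edgesFrom isoTab 18 43605 42918 lineStep 6000 1500 = true := by decide +kernel

theorem iso_edges5 :
    edgesFrom isoTab 18 43605 42918 lineStep 7500 1500 = true := by decide +kernel

theorem iso_edges6 :
    edgesFrom isoTab 18 43605 42918 lineStep 9000 1500 = true := by decide +kernel

theorem iso_edges7 :
    edgesFrom isoTab 18 43605 42918 lineStep 10500 1500 = true := by decide +kernel

theorem iso_edges8 :
    edgesFrom isoTab 18 43605 42918 lineStep 12000 1500 = true := by decide +kernel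

theorem iso_edges9 :
    edgesFrom isoTab 18 43605 42918 lineStep 13500 1500 = true := by decide +kernel

theorem iso_edges10 :
    edgesFrom isoTab 18 43605 42918 lineStep 15000 1500 = true := by decide +kernel

theorem iso_edges11 :
    edgesFrom isoTab 18 43605 42918 lineStep 16500 1500 = true := by decide +kernel

theorem iso_edges12 :
    edgesFrom isoTab 18 43605 42918 lineStep 18000 1500 = true := by decide +kernel

theorem iso_edges13 :
    edgesFrom isoTab 18 43605 42918 lineStep 19500 1500 = true := by decide +kernel

theorem iso_edges14 :
    edgesFrom isoTab 18 43605 42918 lineStep 21000 1500 = true := by decide +kernel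

theorem iso_edges15 :
    edgesFrom isoTab 18 43605 42918 lineStep 22500 1500 = true := by decide +kernel

theorem iso_edges16 :
    edgesFrom isoTab 18 43605 42918 lineStep 24000 1500 = true := by decide +kernel

theorem iso_edges17 :
    edgesFrom isoTab 18 43605 42918 lineStep 25500 1500 = true := by decide +kernel

theorem iso_edges18 :
    edgesFrom isoTab 18 43605 42918 lineStep 27000 1500 = true := by decide +kernel

theorem iso_edges19 :
    edgesFrom isoTab 18 43605 42918 lineStep 28500 1500 = true := by decide +kernel

theorem iso_edges20 :
    edgesFrom isoTab 18 43605 42918 lineStep 30000 1500 = true := by decide +kernel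

theorem iso_edges21 :
    edgesFrom isoTab 18 43605 42918 lineStep 31500 1500 = true := by decide +kernel

theorem iso_edges22 :
    edgesFrom isoTab 18 43605 42918 lineStep 33000 1500 = true := by decide +kernel

theorem iso_edges23 :
    edgesFrom isoTab 18 43605 42918 lineStep 34500 1500 = true := by decide +kernel

theorem iso_edges24 :
    edgesFrom isoTab 18 43605 42918 lineStep 36000 1500 = true := by decide +kernel

theorem iso_edges25 :
    edgesFrom isoTab 18 43605 42918 lineStep 37500 1500 = true := by decide +kernel

theorem iso_edges26 :
    edgesFrom isoTab 18 43605 42918 lineStep 39000 1500 = true := by decide +kernel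

theorem iso_edges27 :
    edgesFrom isoTab 18 43605 42918 lineStep 40500 1500 = true := by decide +kernel

theorem iso_edges28 :
    edgesFrom isoTab 18 43605 42918 lineStep 42000 1500 = true := by decide +kernel

theorem iso_edges29 :
    edgesFrom isoTab 18 43605 42918 lineStep 43500 105 = true := by decide +kernel

theorem iso_edges : ∀ i < 43605, edgeOK isoTab 18 43605 42918 lineStep i = true :=
  fun i hi => (range_split (range_split (range_split (range_split (range_split (range_split (range_split (range_split (range_split (range_split (range_split (range_split (range_split (range_split (range_split (range_split (range_split (range_split (range_split (range_split (range_split (range_split (range_split (range_split (range_split (range_split (range_split (range_split (range_split (edgesFrom_spec iso_edges0) (edgesFrom_spec iso_edges1)) (edgesFrom_spec iso_edges2)) (edgesFrom_spec iso_edges3)) (edgesFrom_spec iso_edges4)) (edgesFrom_spec iso_edges5)) (edgesFrom_spec iso_edges6)) (edgesFrom_spec iso_edges7)) (edgesFrom_spec iso_edges8)) (edgesFrom_spec iso_edges9)) (edgesFrom_spec iso_edges10)) (edgesFrom_spec iso_edges11)) (edgesFrom_spec iso_edges12))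 (edgesFrom_spec iso_edges13)) (edgesFrom_spec iso_edges14)) (edgesFrom_spec iso_edges15)) (edgesFrom_spec iso_edges16)) (edgesFrom_spec iso_edges17)) (edgesFrom_spec iso_edges18)) (edgesFrom_spec iso_edges19)) (edgesFrom_spec iso_edges20)) (edgesFrom_spec iso_edges21)) (edgesFrom_spec iso_edges22)) (edgesFrom_spec iso_edges23)) (edgesFrom_spec iso_edges24)) (edgesFrom_spec iso_edges25)) (edgesFrom_spec iso_edges26)) (edgesFrom_spec iso_edges27)) (edgesFrom_spec iso_edges28)) (edgesFrom_spec iso_edges29)) i (Nat.zero_le _) hi

end CfsgLib.Sporadic.J3Mat
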