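import Cfsg.Agent.Lib.Sporadic.J3Points
import Cfsg.Agent.Lib.Sporadic.CosetCertGroup

/-!
# The orbit of a line

Machine-generated chunks.
-/

set_option maxRecDepth 100000

open CfsgLib.Sporadic.CosetCert

namespace CfsgLib.Sporadic.J3Mat

theorem line_edges0 :
    edgesFrom lineTab 18 23256 0 lineStep 0 1500 = true := by decide +kernel

theorem line_edges1 :
    edgesFrom lineTab 18 23256 0 lineStep 1500 1500 = true := by decide +kernel

theorem line_edges2 :
    edgesFrom lineTab 18 23256 0 lineStep 3000 1500 = true := by decide +kernel

theorem line_edges3 :
    edgesFrom lineTab 18 23256 0 lineStep 4500 1500 = true := by decide +kernel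

theorem line_edges4 :
    edgesFrom lineTab 18 23256 0 lineStep 6000 1500 = true := by decide +kernel

theorem line_edges5 :
    edgesFrom lineTab 18 23256 0 lineStep 7500 1500 = true := by decide +kernel

theorem line_edges6 :
    edgesFrom lineTab 18 23256 0 lineStep 9000 1500 = true := by decide +kernel

theorem line_edges7 :
    edgesFrom lineTab 18 23256 0 lineStep 10500 1500 = true := by decide +kernel

theorem line_edges8 :
    edgesFrom lineTab 18 23256 0 lineStep 12000 1500 = true := by decide +kernel

theorem line_edges9 :
    edgesFrom lineTab 18 23256 0 lineStep 13500 1500 = true := by decide +kernel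

theorem line_edges10 :
    edgesFrom lineTab 18 23256 0 lineStep 15000 1500 = true := by decide +kernel

theorem line_edges11 :
    edgesFrom lineTab 18 23256 0 lineStep 16500 1500 = true := by decide +kernel

theorem line_edges12 :
    edgesFrom lineTab 18 23256 0 lineStep 18000 1500 = true := by decide +kernel

theorem line_edges13 :
    edgesFrom lineTab 18 23256 0 lineStep 19500 1500 = true := by decide +kernel

theorem line_edges14 :
    edgesFrom lineTab 18 23256 0 lineStep 21000 1500 = true := by decide +kernel

theorem line_edges15 :
    edgesFrom lineTab 18 23256 0 lineStep 22500 756 = true := by decide +kernel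

theorem line_edges : ∀ i < 23256, edgeOK lineTab 18 23256 0 lineStep i = true :=
  fun i hi => (range_split (range_split (range_split (range_split (range_split (range_split (range_split (range_split (range_split (range_split (range_split (range_split (range_split (range_split (range_split (edgesFrom_spec line_edges0) (edgesFrom_spec line_edges1)) (edgesFrom_spec line_edges2)) (edgesFrom_spec line_edges3)) (edgesFrom_spec line_edges4)) (edgesFrom_spec line_edges5)) (edgesFrom_spec line_edges6)) (edgesFrom_spec line_edges7)) (edgesFrom_spec line_edges8)) (edgesFrom_spec line_edges9)) (edgesFrom_spec line_edges10)) (edgesFrom_spec line_edges11)) (edgesFrom_spec line_edges12)) (edgesFrom_spec line_edges13)) (edgesFrom_spec line_edges14)) (edgesFrom_spec line_edges15)) i (Nat.zero_le _) hi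

end CfsgLib.Sporadic.J3Mat
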