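import Cfsg.Agent.Lib.Sporadic.J3Points
import Cfsg.Agent.Lib.Sporadic.CosetCertGroup

/-!
# Keys of the two searches

Machine-generated chunks.
-/

set_option maxRecDepth 100000

open CfsgLib.Sporadic.CosetCert

namespace CfsgLib.Sporadic.J3Mat

theorem line_incr : incrOK lineTab 18 0 23255 = true := by decide +kernel

theorem line_norm0 : normFrom lineTab 0 6000 = true := by decide +kernel

theorem line_norm1 : normFrom lineTab 6000 6000 = true := by decide +kernel

theorem line_norm2 : normFrom lineTab 12000 6000 = true := by decide +kernel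

theorem line_norm3 : normFrom lineTab 18000 5256 = true := by decide +kernel

theorem line_root : keyP lineTab 18 0 = 1 := by decide +kernel

theorem iso_root : keyP isoTab 18 42918 = 4160 := by decide +kernel

theorem iso_walk0_0 : walkJ isoTab 43605 0 0 8192 0 = 4096 := by decide +kernel

theorem iso_walk0_1 : walkJ isoTab 43605 0 8192 8192 4096 = 8256 := by decide +kernel

theorem iso_walk0_2 : walkJ isoTab 43605 0 16384 8192 8256 = 12352 := by decide +kernel

theorem iso_walk0_3 : walkJ isoTab 43605 0 24576 8192 12352 = 16384 := by decide +kernel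

theorem iso_walk0_4 : walkJ isoTab 43605 0 32768 8192 16384 = 20480 := by decide +kernel

theorem iso_walk0_5 : walkJ isoTab 43605 0 40960 8192 20480 = 24512 := by decide +kernel

theorem iso_walk0_6 : walkJ isoTab 43605 0 49152 8192 24512 = 28608 := by decide +kernel

theorem iso_walk0_7 : walkJ isoTab 43605 0 57344 8192 28608 = 32640 := by decide +kernel

theorem iso_walk1_0 : walkJ isoTab 43605 1 0 8192 32640 = 36736 := by decide +kernel

theorem iso_walk1_1 : walkJ isoTab 43605 1 8192 8192 36736 = 40896 := by decide +kernel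

theorem iso_walk2_0 : walkJ isoTab 43605 2 0 4096 40896 = 42912 := by decide +kernel

theorem iso_walk3_0 : walkJ isoTab 43605 3 0 1024 42912 = 43440 := by decide +kernel

theorem iso_walk4_0 : walkJ isoTab 43605 4 0 256 43440 = 43560 := by decide +kernel

theorem iso_walk5_0 : walkJ isoTab 43605 5 0 64 43560 = 43596 := by decide +kernel

theorem iso_walk6_0 : walkJ isoTab 43605 6 0 16 43596 = 43602 := by decide +kernel

theorem iso_walk7_0 : walkJ isoTab 43605 7 0 4 43602 = 43605 := by decide +kernel

theorem iso_walk8_0 : walkJ isoTab 43605 8 0 1 43605 = 43605 := by decide +kernel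

theorem iso_cover : ∀ j < 9, ∀ u < 4 ^ (8 - j), oddJ (leadCode j u) = 0 →
    ∃ i < 43605, keyP isoTab 18 i = leadCode j u := by
  intro j hj u hu
  match j, hj with
  | 0, _ => exact (range_split (range_split (range_split (range_split (range_split (range_split (range_split (walkJ_spec iso_walk0_0 (by norm_num)) (walkJ_spec iso_walk0_1 (by norm_num))) (walkJ_spec iso_walk0_2 (by norm_num))) (walkJ_spec iso_walk0_3 (by norm_num))) (walkJ_spec iso_walk0_4 (by norm_num))) (walkJ_spec iso_walk0_5 (by norm_num))) (walkJ_spec iso_walk0_6 (by norm_num))) (walkJ_spec iso_walk0_7 (by norm_num))) u (Nat.zero_le _) (hu.trans_le (by norm_num))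
  | 1, _ => exact (range_split (walkJ_spec iso_walk1_0 (by norm_num)) (walkJ_spec iso_walk1_1 (by norm_num))) u (Nat.zero_le _) (hu.trans_le (by norm_num))
  | 2, _ => exact (walkJ_spec iso_walk2_0 (by norm_num)) u (Nat.zero_le _) (hu.trans_le (by norm_num))
  | 3, _ => exact (walkJ_spec iso_walk3_0 (by norm_num)) u (Nat.zero_le _) (hu.trans_le (by norm_num))
  | 4, _ => exact (walkJ_spec iso_walk4_0 (by norm_num)) u (Nat.zero_le _) (hu.trans_le (by norm_num))
  | 5, _ => exact (walkJ_spec iso_walk5_0 (by norm_num)) u (Nat.zero_le _) (hu.trans_le (by norm_num))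
  | 6, _ => exact (walkJ_spec iso_walk6_0 (by norm_num)) u (Nat.zero_le _) (hu.trans_le (by norm_num))
  | 7, _ => exact (walkJ_spec iso_walk7_0 (by norm_num)) u (Nat.zero_le _) (hu.trans_le (by norm_num))
  | 8, _ => exact (walkJ_spec iso_walk8_0 (by norm_num)) u (Nat.zero_le _) (hu.trans_le (by norm_num))
  | j + 9, h => exact absurd h (by omega)

end CfsgLib.Sporadic.J3Mat
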