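import Cfsg.Agent.Lib.Sporadic.J3Data.J3Table

/-!
# The 2-local data of the third Janko group

Machine-generated words in the four letters.
-/

namespace CfsgLib.Sporadic.CosetCert.J3Data

/-- Generators of a Sylow 2-subgroup. -/
def sGens : List (List ℕ) :=
  [[0],
   [1, 0, 3, 1, 2, 3, 1, 0, 1, 0, 3, 1, 3, 0, 1, 0, 1, 3, 2, 1, 3, 0, 1],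
   [1, 3, 1, 0, 2, 1, 0, 3, 1, 2, 3, 1, 3, 0, 1, 3, 2, 1, 3, 0, 1, 2, 0, 1, 3, 1]]

/-- Its elements, as products of the generators. -/
def sElems : List (List ℕ) :=
  [[],
   [0],
   [1],
   [2],
   [0, 1],
   [0, 2],
   [1, 0],
   [1, 2],
   [2, 0],
   [2, 1],
   [0, 1, 0],
   [0, 1, 2],
   [0, 2, 0],
   [0, 2, 1],
   [1, 0, 1],
   [1, 0, 2],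
   [1, 2, 0],
   [1, 2, 1],
   [2, 0, 1],
   [2, 0, 2],
   [2, 1, 0],
   [2, 1, 2],
   [0, 1, 0, 1],
   [0, 1, 0, 2],
   [0, 1, 2, 0],
   [0, 1, 2, 1],
   [0, 2, 0, 1],
   [0, 2, 0, 2],
   [0, 2, 1, 0],
   [0, 2, 1, 2],
   [1, 0, 1, 0],
   [1, 0, 1, 2],
   [1, 0, 2, 0],
   [1, 0, 2, 1],
   [1, 2, 0, 1],
   [1, 2, 0, 2],
   [1, 2, 1, 2],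
   [2, 0, 1, 0],
   [2, 0, 1, 2],
   [2, 0, 2, 1],
   [2, 1, 0, 2],
   [2, 1, 2, 0],
   [2, 1, 2, 1],
   [0, 1, 0, 1, 0],
   [0, 1, 0, 1, 2],
   [0, 1, 0, 2, 0],
   [0, 1, 0, 2, 1],
   [0, 1, 2, 0, 1],
   [0, 1, 2, 0, 2],
   [0, 1, 2, 1, 2],
   [0, 2, 0, 1, 0],
   [0, 2, 0, 1, 2],
   [0, 2, 0, 2, 1],
   [0, 2, 1, 0, 2],
   [0, 2, 1, 2, 0],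
   [0, 2, 1, 2, 1],
   [1, 0, 1, 0, 1],
   [1, 0, 1, 0, 2],
   [1, 0, 1, 2, 0],
   [1, 0, 2, 0, 1],
   [1, 0, 2, 0, 2],
   [1, 0, 2, 1, 0],
   [1, 0, 2, 1, 2],
   [1, 2, 0, 1, 0],
   [1, 2, 0, 1, 2],
   [1, 2, 0, 2, 1],
   [1, 2, 1, 2, 0],
   [1, 2, 1, 2, 1],
   [2, 0, 1, 0, 1],
   [2, 0, 1, 0, 2],
   [2, 0, 1, 2, 0],
   [2, 0, 1, 2, 1],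
   [2, 0, 2, 1, 0],
   [2, 0, 2, 1, 2],
   [2, 1, 0, 2, 0],
   [2, 1, 0, 2, 1],
   [2, 1, 2, 0, 1],
   [2, 1, 2, 0, 2],
   [2, 1, 2, 1, 2],
   [0, 1, 0, 1, 0, 1],
   [0, 1, 0, 1, 0, 2],
   [0, 1, 0, 1, 2, 0],
   [0, 1, 0, 2, 0, 1],
   [0, 1, 0, 2, 0, 2],
   [0, 1, 0, 2, 1, 0],
   [0, 1, 0, 2, 1, 2],
   [0, 1, 2, 0, 1, 0],
   [0, 1, 2, 0, 1, 2],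
   [0, 1, 2, 0, 2, 1],
   [0, 1, 2, 1, 2, 0],
   [0, 1, 2, 1, 2, 1],
   [0, 2, 0, 1, 0, 1],
   [0, 2, 0, 1, 0, 2],
   [0, 2, 0, 1, 2, 0],
   [0, 2, 0, 1, 2, 1],
   [0, 2, 0, 2, 1, 0],
   [0, 2, 0, 2, 1, 2],
   [0, 2, 1, 0, 2, 0],
   [0, 2, 1, 0, 2, 1],
   [0, 2, 1, 2, 0, 1],
   [0, 2, 1, 2, 0, 2],
   [0, 2, 1, 2, 1, 2],
   [1, 0, 1, 0, 1, 0],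
   [1, 0, 1, 0, 1, 2],
   [1, 0, 1, 0, 2, 1],
   [1, 0, 2, 0, 2, 1],
   [1, 2, 0, 1, 0, 1],
   [1, 2, 0, 2, 1, 0],
   [1, 2, 1, 2, 0, 2],
   [1, 2, 1, 2, 1, 2],
   [2, 1, 0, 2, 0, 2],
   [2, 1, 2, 1, 2, 1],
   [0, 1, 0, 1, 0, 1, 0],
   [0, 1, 0, 1, 0, 1, 2],
   [0, 1, 0, 1, 0, 2, 1],
   [0, 1, 0, 2, 0, 2, 1],
   [0, 1, 2, 0, 1, 0, 1],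
   [0, 1, 2, 0, 2, 1, 0],
   [0, 1, 2, 1, 2, 0, 2],
   [0, 1, 2, 1, 2, 1, 2],
   [0, 2, 1, 0, 2, 0, 2],
   [0, 2, 1, 2, 1, 2, 1],
   [1, 0, 1, 0, 1, 0, 1],
   [1, 0, 2, 0, 2, 1, 2],
   [1, 2, 1, 2, 1, 2, 1],
   [0, 1, 0, 1, 0, 1, 0, 1],
   [0, 1, 0, 2, 0, 2, 1, 2],
   [0, 1, 2, 1, 2, 1, 2, 1]]

/-- Conjugators taking the central involution to the generators. -/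
def sConj : List (List ℕ) :=
  [[1, 0, 3, 1, 2, 1, 3, 1, 2, 1, 0, 1, 2, 1],
   [1, 0, 3, 1, 0, 3, 1, 0, 2, 1, 2, 3, 1, 0, 3, 1],
   [1, 3, 1, 0, 1, 0, 1, 0, 2, 1, 0, 1, 3, 1, 0, 1]]

/-- Generators of the normal subgroup of order 32. -/
def qGens : List (List ℕ) :=
  [[1, 0, 1, 2, 3, 1, 0, 1, 2, 3, 1, 0, 2, 1, 3, 1, 2, 0, 1, 0, 1, 3, 1],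
   [1, 0, 3, 1, 2, 3, 1, 0, 1, 0, 3, 1, 3, 0, 1, 0, 1, 3, 2, 1, 3, 0, 1],
   [1, 0, 3, 1, 0, 3, 1, 0, 3, 1, 0, 3, 1, 3, 0, 1, 3, 0, 1, 3, 0, 1, 3, 0, 1],
   [1, 0, 3, 1, 3, 1, 0, 1, 0, 1, 0, 1, 0, 2, 1, 3, 1, 3, 1, 0, 1, 3, 0, 1, 0, 1]]

/-- Its elements. -/
def qElems : List (List ℕ) :=
  [[],
   [0],
   [1],
   [2],
   [3],
   [0, 1],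
   [0, 2],
   [0, 3],
   [1, 0],
   [1, 2],
   [1, 3],
   [2, 0],
   [2, 1],
   [2, 3],
   [3, 0],
   [3, 1],
   [3, 2],
   [0, 1, 0],
   [0, 1, 2],
   [0, 1, 3],
   [0, 2, 0],
   [0, 2, 1],
   [0, 2, 3],
   [0, 3, 0],
   [0, 3, 1],
   [0, 3, 2],
   [1, 0, 1],
   [1, 2, 3],
   [1, 3, 2],
   [0, 1, 0, 1],
   [0, 1, 2, 3],
   [0, 1, 3, 2]]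

/-- Conjugators for elements of orders three and five. -/
def yThree : List ℕ × ℕ × ℕ × ℕ := ([1, 0, 1, 2, 1, 0, 1, 0, 1, 0, 1, 0, 1, 2, 1, 0, 1], 0, 1, 0)

/-- The same for five. -/
def yFive : List ℕ × ℕ × ℕ × ℕ := ([1, 2, 1], 0, 1, 0)

/-- Conjugators to 323 conjugates of the central involution fixing the first point. -/
def fixConj : List (List ℕ) :=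
  [[],
   [1],
   [1, 0],
   [1, 0, 1],
   [1, 0, 1, 0],
   [1, 0, 1, 2],
   [1, 0, 1, 0, 1],
   [1, 0, 1, 0, 2],
   [1, 0, 1, 2, 1],
   [1, 0, 1, 0, 1, 0],
   [1, 0, 1, 0, 1, 2],
   [1, 0, 1, 0, 2, 1],
   [1, 0, 1, 2, 1, 0],
   [1, 0, 1, 0, 1, 0, 1],
   [1, 0, 1, 0, 1, 0, 2],
   [1, 0, 1, 0, 1, 2, 1],
   [1, 0, 1, 0, 2, 1, 0],
   [1, 0, 1, 2, 1, 0, 1],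
   [1, 0, 3, 1, 2, 1, 3],
   [1, 0, 1, 0, 1, 0, 1, 0],
   [1, 0, 1, 0, 1, 0, 1, 2],
   [1, 0, 1, 0, 1, 0, 2, 1],
   [1, 0, 1, 0, 1, 2, 1, 0],
   [1, 0, 1, 0, 1, 2, 1, 2],
   [1, 0, 1, 2, 1, 0, 1, 0],
   [1, 0, 1, 2, 1, 0, 1, 2],
   [1, 0, 3, 1, 2, 1, 0, 3],
   [1, 0, 3, 1, 2, 1, 3, 1],
   [1, 0, 1, 0, 1, 0, 1, 0, 1],
   [1, 0, 1, 0, 1, 0, 1, 0, 2],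
   [1, 0, 1, 0, 1, 0, 1, 2, 1],
   [1, 0, 1, 0, 1, 0, 2, 1, 0],
   [1, 0, 1, 0, 1, 0, 2, 1, 2],
   [1, 0, 1, 0, 1, 2, 1, 0, 1],
   [1, 0, 1, 0, 1, 2, 1, 0, 2],
   [1, 0, 1, 2, 1, 0, 1, 0, 2],
   [1, 0, 1, 2, 1, 0, 1, 2, 1],
   [1, 0, 3, 1, 2, 1, 3, 1, 0],
   [1, 0, 3, 1, 2, 1, 3, 1, 2],
   [1, 0, 1, 0, 1, 0, 1, 0, 1, 0],
   [1, 0, 1, 0, 1, 0, 1, 0, 2, 1],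
   [1, 0, 1, 0, 1, 0, 1, 2, 1, 0],
   [1, 0, 1, 0, 1, 0, 1, 2, 1, 2],
   [1, 0, 1, 0, 1, 0, 2, 1, 0, 1],
   [1, 0, 1, 0, 1, 0, 2, 1, 0, 2],
   [1, 0, 1, 0, 1, 2, 1, 0, 1, 0],
   [1, 0, 1, 0, 1, 2, 1, 0, 1, 2],
   [1, 0, 1, 0, 1, 2, 1, 0, 2, 1],
   [1, 0, 1, 0, 3, 1, 0, 2, 1, 3],
   [1, 0, 1, 2, 1, 0, 1, 0, 2, 1],
   [1, 0, 3, 1, 0, 3, 1, 2, 1, 3],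
   [1, 0, 3, 1, 2, 1, 3, 1, 0, 1],
   [1, 0, 3, 1, 2, 1, 3, 1, 0, 2],
   [1, 0, 3, 1, 2, 1, 3, 1, 2, 1],
   [1, 0, 1, 0, 1, 0, 1, 0, 1, 0, 1],
   [1, 0, 1, 0, 1, 0, 1, 0, 2, 1, 0],
   [1, 0, 1, 0, 1, 0, 1, 2, 1, 0, 1],
   [1, 0, 1, 0, 1, 0, 2, 1, 0, 1, 0],
   [1, 0, 1, 0, 1, 0, 2, 1, 0, 2, 1],
   [1, 0, 1, 0, 1, 2, 1, 0, 1, 0, 2],
   [1, 0, 1, 0, 1, 2, 1, 0, 1, 2, 1],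
   [1, 0, 1, 0, 1, 2, 1, 0, 2, 1, 0],
   [1, 0, 1, 0, 1, 2, 1, 0, 2, 1, 2],
   [1, 0, 1, 0, 3, 1, 0, 2, 1, 0, 3],
   [1, 0, 1, 0, 3, 1, 0, 2, 1, 2, 3],
   [1, 0, 1, 0, 3, 1, 0, 2, 1, 3, 1],
   [1, 0, 1, 2, 1, 0, 1, 0, 2, 1, 0],
   [1, 0, 1, 2, 1, 0, 1, 0, 2, 1, 2],
   [1, 0, 3, 1, 0, 2, 3, 1, 2, 1, 3],
   [1, 0, 3, 1, 0, 3, 1, 2, 1, 0, 3],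
   [1, 0, 3, 1, 0, 3, 1, 2, 1, 3, 1],
   [1, 0, 3, 1, 2, 1, 3, 1, 0, 1, 0],
   [1, 0, 3, 1, 2, 1, 3, 1, 0, 1, 2],
   [1, 0, 3, 1, 2, 1, 3, 1, 0, 2, 1],
   [1, 0, 3, 1, 2, 1, 3, 1, 2, 1, 0],
   [1, 0, 1, 0, 1, 0, 1, 0, 2, 1, 0, 1],
   [1, 0, 1, 0, 1, 0, 2, 1, 0, 1, 0, 1],
   [1, 0, 1, 0, 1, 2, 1, 0, 1, 0, 2, 1],
   [1, 0, 1, 0, 1, 2, 1, 0, 1, 2, 1, 0],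
   [1, 0, 1, 0, 1, 2, 1, 0, 2, 1, 0, 1],
   [1, 0, 1, 0, 1, 2, 1, 0, 2, 1, 0, 2],
   [1, 0, 1, 0, 3, 1, 0, 2, 1, 0, 2, 3],
   [1, 0, 1, 0, 3, 1, 0, 2, 1, 0, 3, 1],
   [1, 0, 1, 0, 3, 1, 0, 2, 1, 2, 3, 1],
   [1, 0, 1, 0, 3, 1, 0, 2, 1, 3, 1, 0],
   [1, 0, 1, 0, 3, 1, 0, 2, 1, 3, 1, 2],
   [1, 0, 1, 2, 1, 0, 1, 0, 2, 1, 0, 1],
   [1, 0, 1, 3, 1, 0, 1, 2, 1, 0, 1, 3],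
   [1, 0, 3, 1, 0, 2, 3, 1, 2, 1, 0, 3],
   [1, 0, 3, 1, 0, 2, 3, 1, 2, 1, 3, 1],
   [1, 0, 3, 1, 0, 3, 1, 2, 1, 3, 1, 0],
   [1, 0, 3, 1, 0, 3, 1, 2, 1, 3, 1, 2],
   [1, 0, 3, 1, 2, 1, 3, 1, 0, 1, 0, 1],
   [1, 0, 3, 1, 2, 1, 3, 1, 0, 1, 0, 2],
   [1, 0, 3, 1, 2, 1, 3, 1, 0, 1, 2, 1],
   [1, 0, 3, 1, 2, 1, 3, 1, 0, 2, 1, 0],
   [1, 0, 3, 1, 2, 1, 3, 1, 0, 2, 1, 2],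
   [1, 0, 3, 1, 2, 1, 3, 1, 2, 1, 0, 1],
   [1, 0, 1, 0, 1, 0, 1, 0, 2, 1, 0, 1, 0],
   [1, 0, 1, 0, 1, 2, 1, 0, 1, 0, 2, 1, 0],
   [1, 0, 1, 0, 1, 2, 1, 0, 2, 1, 0, 1, 0],
   [1, 0, 1, 0, 1, 3, 1, 0, 2, 1, 3, 1, 3],
   [1, 0, 1, 0, 3, 1, 0, 2, 1, 0, 2, 3, 1],
   [1, 0, 1, 0, 3, 1, 0, 2, 1, 0, 3, 1, 0],
   [1, 0, 1, 0, 3, 1, 0, 2, 1, 2, 3, 1, 2],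
   [1, 0, 1, 0, 3, 1, 0, 2, 1, 3, 1, 0, 1],
   [1, 0, 1, 0, 3, 1, 0, 2, 1, 3, 1, 0, 2],
   [1, 0, 1, 0, 3, 1, 0, 2, 1, 3, 1, 2, 1],
   [1, 0, 1, 3, 1, 0, 1, 2, 1, 0, 1, 0, 3],
   [1, 0, 1, 3, 1, 0, 1, 2, 1, 0, 1, 2, 3],
   [1, 0, 1, 3, 1, 0, 1, 2, 1, 0, 1, 3, 1],
   [1, 0, 3, 1, 0, 1, 3, 1, 0, 1, 3, 1, 3],
   [1, 0, 3, 1, 0, 2, 3, 1, 0, 1, 0, 1, 3],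
   [1, 0, 3, 1, 0, 2, 3, 1, 2, 1, 3, 1, 0],
   [1, 0, 3, 1, 0, 3, 1, 2, 1, 3, 1, 0, 1],
   [1, 0, 3, 1, 0, 3, 1, 2, 1, 3, 1, 0, 2],
   [1, 0, 3, 1, 0, 3, 1, 2, 1, 3, 1, 2, 1],
   [1, 0, 3, 1, 2, 1, 3, 1, 0, 1, 0, 1, 0],
   [1, 0, 3, 1, 2, 1, 3, 1, 0, 1, 0, 1, 2],
   [1, 0, 3, 1, 2, 1, 3, 1, 0, 1, 0, 2, 1],
   [1, 0, 3, 1, 2, 1, 3, 1, 0, 1, 2, 1, 2],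
   [1, 0, 3, 1, 2, 1, 3, 1, 0, 2, 1, 0, 2],
   [1, 0, 3, 1, 2, 1, 3, 1, 2, 1, 0, 1, 2],
   [1, 0, 3, 1, 3, 1, 2, 1, 0, 1, 3, 1, 3],
   [1, 0, 1, 0, 1, 2, 1, 0, 2, 1, 0, 1, 0, 1],
   [1, 0, 1, 0, 1, 3, 1, 0, 2, 1, 3, 1, 2, 3],
   [1, 0, 1, 0, 1, 3, 1, 0, 2, 1, 3, 1, 3, 1],
   [1, 0, 1, 0, 3, 1, 0, 2, 1, 0, 2, 3, 1, 0],
   [1, 0, 1, 0, 3, 1, 0, 2, 1, 0, 2, 3, 1, 2],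
   [1, 0, 1, 0, 3, 1, 0, 2, 1, 0, 3, 1, 0, 1],
   [1, 0, 1, 0, 3, 1, 0, 2, 1, 2, 3, 1, 2, 1],
   [1, 0, 1, 0, 3, 1, 0, 2, 1, 3, 1, 0, 1, 0],
   [1, 0, 1, 0, 3, 1, 0, 2, 1, 3, 1, 0, 1, 2],
   [1, 0, 1, 0, 3, 1, 2, 3, 1, 3, 1, 2, 1, 3],
   [1, 0, 1, 2, 1, 0, 1, 2, 3, 1, 0, 2, 1, 3],
   [1, 0, 1, 3, 1, 0, 1, 2, 1, 0, 1, 0, 2, 3],
   [1, 0, 1, 3, 1, 0, 1, 2, 1, 0, 1, 2, 3, 1],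
   [1, 0, 1, 3, 1, 0, 1, 2, 1, 0, 1, 3, 1, 0],
   [1, 0, 1, 3, 1, 0, 1, 2, 1, 0, 1, 3, 1, 2],
   [1, 0, 3, 1, 0, 1, 3, 1, 0, 1, 3, 1, 0, 3],
   [1, 0, 3, 1, 0, 1, 3, 1, 0, 1, 3, 1, 2, 3],
   [1, 0, 3, 1, 0, 1, 3, 1, 0, 1, 3, 1, 3, 1],
   [1, 0, 3, 1, 0, 2, 3, 1, 0, 1, 0, 1, 2, 3],
   [1, 0, 3, 1, 0, 2, 3, 1, 0, 1, 0, 1, 3, 1],
   [1, 0, 3, 1, 0, 2, 3, 1, 2, 1, 3, 1, 0, 1],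
   [1, 0, 3, 1, 0, 3, 1, 2, 1, 3, 1, 0, 1, 0],
   [1, 0, 3, 1, 0, 3, 1, 2, 1, 3, 1, 0, 1, 2],
   [1, 0, 3, 1, 0, 3, 1, 2, 1, 3, 1, 0, 2, 1],
   [1, 0, 3, 1, 0, 3, 1, 2, 1, 3, 1, 2, 1, 0],
   [1, 0, 3, 1, 2, 1, 3, 1, 0, 1, 0, 1, 0, 1],
   [1, 0, 3, 1, 2, 1, 3, 1, 0, 1, 0, 1, 0, 2],
   [1, 0, 3, 1, 2, 1, 3, 1, 0, 1, 0, 1, 2, 1],
   [1, 0, 3, 1, 2, 1, 3, 1, 0, 1, 0, 2, 1, 0],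
   [1, 0, 3, 1, 2, 1, 3, 1, 0, 1, 0, 2, 1, 2],
   [1, 0, 3, 1, 2, 1, 3, 1, 2, 1, 0, 1, 2, 1],
   [1, 0, 3, 1, 3, 1, 2, 1, 0, 1, 3, 1, 0, 3],
   [1, 0, 3, 1, 3, 1, 2, 1, 0, 1, 3, 1, 2, 3],
   [1, 0, 3, 1, 3, 1, 2, 1, 0, 1, 3, 1, 3, 1],
   [1, 0, 1, 0, 1, 0, 1, 0, 1, 0, 3, 1, 2, 1, 3],
   [1, 0, 1, 0, 1, 2, 1, 0, 2, 1, 0, 1, 0, 1, 0],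
   [1, 0, 1, 0, 1, 3, 1, 0, 2, 1, 3, 1, 2, 3, 1],
   [1, 0, 1, 0, 1, 3, 1, 0, 2, 1, 3, 1, 3, 1, 0],
   [1, 0, 1, 0, 1, 3, 1, 0, 2, 1, 3, 1, 3, 1, 2],
   [1, 0, 1, 0, 1, 3, 1, 2, 3, 1, 3, 1, 2, 1, 3],
   [1, 0, 1, 0, 3, 1, 0, 2, 1, 0, 2, 3, 1, 0, 1],
   [1, 0, 1, 0, 3, 1, 0, 2, 1, 0, 2, 3, 1, 0, 2],
   [1, 0, 1, 0, 3, 1, 0, 2, 1, 0, 2, 3, 1, 2, 1],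
   [1, 0, 1, 0, 3, 1, 0, 2, 1, 0, 3, 1, 0, 1, 0],
   [1, 0, 1, 0, 3, 1, 0, 2, 1, 3, 1, 0, 1, 0, 1],
   [1, 0, 1, 0, 3, 1, 0, 2, 1, 3, 1, 0, 1, 0, 2],
   [1, 0, 1, 0, 3, 1, 0, 2, 1, 3, 1, 0, 1, 2, 1],
   [1, 0, 1, 0, 3, 1, 2, 3, 1, 2, 3, 1, 2, 1, 3],
   [1, 0, 1, 0, 3, 1, 2, 3, 1, 3, 1, 2, 1, 0, 3],
   [1, 0, 1, 0, 3, 1, 2, 3, 1, 3, 1, 2, 1, 3, 1],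
   [1, 0, 1, 2, 1, 0, 1, 2, 3, 1, 0, 2, 1, 0, 3],
   [1, 0, 1, 2, 1, 0, 1, 2, 3, 1, 0, 2, 1, 2, 3],
   [1, 0, 1, 2, 1, 0, 1, 2, 3, 1, 0, 2, 1, 3, 1],
   [1, 0, 1, 3, 1, 0, 1, 2, 1, 0, 1, 0, 2, 3, 1],
   [1, 0, 1, 3, 1, 0, 1, 2, 1, 0, 1, 2, 3, 1, 0],
   [1, 0, 1, 3, 1, 0, 1, 2, 1, 0, 1, 2, 3, 1, 2],
   [1, 0, 1, 3, 1, 0, 1, 2, 1, 0, 1, 3, 1, 0, 1],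
   [1, 0, 1, 3, 1, 0, 1, 2, 1, 0, 1, 3, 1, 0, 2],
   [1, 0, 1, 3, 1, 0, 1, 2, 1, 0, 1, 3, 1, 2, 1],
   [1, 0, 1, 3, 1, 3, 1, 0, 1, 2, 3, 1, 0, 1, 3],
   [1, 0, 3, 1, 0, 1, 3, 1, 0, 1, 3, 1, 0, 2, 3],
   [1, 0, 3, 1, 0, 1, 3, 1, 0, 1, 3, 1, 0, 3, 1],
   [1, 0, 3, 1, 0, 1, 3, 1, 0, 1, 3, 1, 2, 3, 1],
   [1, 0, 3, 1, 0, 2, 3, 1, 0, 1, 0, 1, 2, 3, 1],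
   [1, 0, 3, 1, 0, 2, 3, 1, 2, 1, 3, 1, 0, 1, 0],
   [1, 0, 3, 1, 0, 3, 1, 2, 1, 3, 1, 0, 1, 0, 1],
   [1, 0, 3, 1, 0, 3, 1, 2, 1, 3, 1, 0, 1, 0, 2],
   [1, 0, 3, 1, 0, 3, 1, 2, 1, 3, 1, 0, 1, 2, 1],
   [1, 0, 3, 1, 0, 3, 1, 2, 1, 3, 1, 0, 2, 1, 0],
   [1, 0, 3, 1, 0, 3, 1, 2, 1, 3, 1, 0, 2, 1, 2],
   [1, 0, 3, 1, 0, 3, 1, 2, 1, 3, 1, 2, 1, 0, 1],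
   [1, 0, 3, 1, 2, 1, 3, 1, 0, 1, 0, 1, 0, 1, 0],
   [1, 0, 3, 1, 2, 1, 3, 1, 0, 1, 0, 1, 0, 1, 2],
   [1, 0, 3, 1, 2, 1, 3, 1, 0, 1, 0, 1, 0, 2, 1],
   [1, 0, 3, 1, 2, 1, 3, 1, 0, 1, 0, 1, 2, 1, 2],
   [1, 0, 3, 1, 2, 1, 3, 1, 0, 1, 0, 1, 2, 1, 3],
   [1, 0, 3, 1, 2, 1, 3, 1, 0, 1, 0, 2, 1, 0, 1],
   [1, 0, 3, 1, 3, 1, 2, 1, 0, 1, 3, 1, 0, 3, 1],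
   [1, 0, 3, 1, 3, 1, 2, 1, 0, 1, 3, 1, 2, 3, 1],
   [1, 0, 3, 1, 3, 1, 2, 1, 0, 1, 3, 1, 3, 1, 2],
   [1, 3, 1, 2, 3, 1, 3, 1, 2, 1, 0, 1, 3, 1, 3],
   [1, 0, 1, 0, 1, 0, 1, 0, 1, 0, 3, 1, 2, 1, 0, 3],
   [1, 0, 1, 0, 1, 0, 1, 0, 2, 1, 0, 3, 1, 2, 1, 3],
   [1, 0, 1, 0, 1, 2, 1, 0, 2, 1, 0, 1, 0, 1, 0, 1],
   [1, 0, 1, 0, 1, 3, 1, 0, 2, 1, 3, 1, 2, 3, 1, 2],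
   [1, 0, 1, 0, 1, 3, 1, 0, 2, 1, 3, 1, 3, 1, 0, 2],
   [1, 0, 1, 0, 1, 3, 1, 0, 2, 1, 3, 1, 3, 1, 2, 1],
   [1, 0, 1, 0, 1, 3, 1, 2, 3, 1, 2, 3, 1, 2, 1, 3],
   [1, 0, 1, 0, 1, 3, 1, 2, 3, 1, 3, 1, 2, 1, 0, 3],
   [1, 0, 1, 0, 1, 3, 1, 2, 3, 1, 3, 1, 2, 1, 3, 1],
   [1, 0, 1, 0, 1, 3, 1, 3, 1, 0, 1, 2, 1, 3, 1, 3],
   [1, 0, 1, 0, 2, 1, 0, 3, 1, 0, 2, 1, 0, 2, 1, 3],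
   [1, 0, 1, 0, 2, 3, 1, 2, 1, 0, 1, 0, 2, 3, 1, 3],
   [1, 0, 1, 0, 3, 1, 0, 2, 1, 0, 2, 3, 1, 0, 1, 0],
   [1, 0, 1, 0, 3, 1, 0, 2, 1, 0, 2, 3, 1, 0, 1, 2],
   [1, 0, 1, 0, 3, 1, 0, 2, 1, 0, 3, 1, 0, 1, 0, 1],
   [1, 0, 1, 0, 3, 1, 0, 2, 1, 3, 1, 0, 1, 0, 1, 0],
   [1, 0, 1, 0, 3, 1, 0, 2, 1, 3, 1, 0, 1, 0, 1, 2],
   [1, 0, 1, 0, 3, 1, 0, 2, 1, 3, 1, 0, 1, 0, 2, 1],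
   [1, 0, 1, 0, 3, 1, 2, 3, 1, 2, 3, 1, 2, 1, 0, 3],
   [1, 0, 1, 0, 3, 1, 2, 3, 1, 2, 3, 1, 2, 1, 3, 1],
   [1, 0, 1, 2, 1, 0, 1, 2, 3, 1, 0, 2, 1, 0, 2, 3],
   [1, 0, 1, 2, 1, 0, 1, 2, 3, 1, 0, 2, 1, 2, 3, 1],
   [1, 0, 1, 2, 1, 0, 1, 2, 3, 1, 0, 2, 1, 3, 1, 0],
   [1, 0, 1, 2, 1, 3, 1, 0, 1, 0, 3, 1, 0, 2, 1, 3],
   [1, 0, 1, 3, 1, 0, 1, 2, 1, 0, 1, 2, 3, 1, 2, 1],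
   [1, 0, 1, 3, 1, 0, 1, 2, 1, 0, 1, 3, 1, 0, 1, 0],
   [1, 0, 1, 3, 1, 0, 1, 2, 1, 0, 1, 3, 1, 0, 2, 1],
   [1, 0, 1, 3, 1, 0, 1, 2, 1, 0, 1, 3, 1, 2, 1, 0],
   [1, 0, 1, 3, 1, 0, 1, 3, 1, 0, 1, 0, 1, 0, 1, 3],
   [1, 0, 1, 3, 1, 3, 1, 0, 1, 2, 3, 1, 0, 1, 0, 3],
   [1, 0, 1, 3, 1, 3, 1, 0, 1, 2, 3, 1, 0, 1, 2, 3],
   [1, 0, 3, 1, 0, 1, 0, 2, 1, 0, 1, 0, 2, 3, 1, 3],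
   [1, 0, 3, 1, 0, 1, 2, 1, 0, 3, 1, 3, 1, 0, 1, 3],
   [1, 0, 3, 1, 0, 1, 3, 1, 0, 1, 3, 1, 0, 2, 3, 1],
   [1, 0, 3, 1, 0, 1, 3, 1, 0, 1, 3, 1, 0, 3, 1, 2],
   [1, 0, 3, 1, 0, 1, 3, 1, 0, 1, 3, 1, 2, 3, 1, 0],
   [1, 0, 3, 1, 0, 1, 3, 1, 0, 1, 3, 1, 2, 3, 1, 2],
   [1, 0, 3, 1, 0, 2, 3, 1, 0, 1, 0, 1, 2, 3, 1, 2],
   [1, 0, 3, 1, 0, 2, 3, 1, 2, 1, 3, 1, 0, 1, 0, 1],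
   [1, 0, 3, 1, 0, 3, 1, 2, 1, 3, 1, 0, 1, 0, 1, 0],
   [1, 0, 3, 1, 0, 3, 1, 2, 1, 3, 1, 0, 1, 0, 1, 2],
   [1, 0, 3, 1, 0, 3, 1, 2, 1, 3, 1, 0, 1, 2, 1, 0],
   [1, 0, 3, 1, 0, 3, 1, 2, 1, 3, 1, 0, 1, 2, 1, 2],
   [1, 0, 3, 1, 2, 1, 3, 1, 0, 1, 0, 1, 0, 1, 0, 1],
   [1, 0, 3, 1, 2, 1, 3, 1, 0, 1, 0, 1, 0, 1, 0, 2],
   [1, 0, 3, 1, 2, 1, 3, 1, 0, 1, 0, 1, 0, 1, 2, 1],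
   [1, 0, 3, 1, 2, 1, 3, 1, 0, 1, 0, 1, 0, 2, 1, 2],
   [1, 0, 3, 1, 2, 1, 3, 1, 0, 1, 0, 2, 1, 0, 1, 2],
   [1, 0, 3, 1, 3, 1, 2, 1, 0, 1, 3, 1, 2, 3, 1, 2],
   [1, 0, 3, 1, 3, 1, 2, 1, 0, 1, 3, 1, 3, 1, 2, 1],
   [1, 3, 1, 0, 1, 0, 1, 0, 1, 0, 1, 0, 1, 2, 1, 3],
   [1, 3, 1, 0, 1, 0, 3, 1, 0, 3, 1, 0, 1, 3, 1, 3],
   [1, 3, 1, 0, 1, 2, 1, 2, 3, 1, 2, 3, 1, 0, 1, 3],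
   [1, 3, 1, 0, 2, 1, 0, 3, 1, 3, 1, 0, 1, 2, 1, 3],
   [1, 3, 1, 2, 1, 3, 1, 0, 1, 0, 1, 2, 1, 3, 1, 3],
   [1, 3, 1, 2, 3, 1, 0, 3, 1, 0, 2, 1, 2, 3, 1, 3],
   [1, 3, 1, 2, 3, 1, 3, 1, 2, 1, 0, 1, 3, 1, 0, 3],
   [1, 3, 1, 2, 3, 1, 3, 1, 2, 1, 0, 1, 3, 1, 2, 3],
   [1, 0, 1, 0, 1, 0, 1, 0, 1, 0, 3, 1, 2, 1, 0, 3, 1],
   [1, 0, 1, 0, 1, 0, 1, 0, 2, 1, 0, 3, 1, 2, 1, 0, 3],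
   [1, 0, 1, 0, 1, 0, 1, 0, 2, 1, 0, 3, 1, 2, 1, 3, 1],
   [1, 0, 1, 0, 1, 2, 3, 1, 0, 1, 0, 1, 0, 2, 3, 1, 3],
   [1, 0, 1, 0, 1, 3, 1, 0, 2, 1, 3, 1, 2, 3, 1, 2, 1],
   [1, 0, 1, 0, 1, 3, 1, 2, 3, 1, 2, 3, 1, 2, 1, 0, 3],
   [1, 0, 1, 0, 1, 3, 1, 2, 3, 1, 2, 3, 1, 2, 1, 3, 1],
   [1, 0, 1, 0, 1, 3, 1, 2, 3, 1, 3, 1, 2, 1, 0, 3, 1],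
   [1, 0, 1, 0, 1, 3, 1, 3, 1, 0, 1, 2, 1, 3, 1, 0, 3],
   [1, 0, 1, 0, 2, 1, 0, 3, 1, 0, 2, 1, 0, 2, 1, 0, 3],
   [1, 0, 1, 0, 2, 1, 0, 3, 1, 0, 2, 1, 0, 2, 1, 3, 1],
   [1, 0, 1, 0, 2, 3, 1, 2, 1, 0, 1, 0, 2, 3, 1, 0, 3],
   [1, 0, 1, 0, 3, 1, 0, 2, 1, 0, 3, 1, 0, 1, 0, 1, 2],
   [1, 0, 1, 0, 3, 1, 0, 2, 1, 0, 3, 1, 0, 1, 0, 1, 3],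
   [1, 0, 1, 0, 3, 1, 0, 2, 1, 3, 1, 0, 1, 0, 1, 0, 1],
   [1, 0, 1, 0, 3, 1, 2, 3, 1, 2, 3, 1, 2, 1, 3, 1, 3],
   [1, 0, 1, 2, 1, 0, 1, 2, 3, 1, 0, 2, 1, 0, 2, 3, 1],
   [1, 0, 1, 2, 1, 3, 1, 0, 1, 0, 3, 1, 0, 2, 1, 2, 3],
   [1, 0, 1, 2, 1, 3, 1, 0, 1, 0, 3, 1, 0, 2, 1, 3, 1],
   [1, 0, 1, 3, 1, 0, 1, 0, 1, 0, 2, 3, 1, 0, 3, 1, 3],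
   [1, 0, 1, 3, 1, 0, 1, 2, 1, 0, 1, 3, 1, 0, 1, 0, 1],
   [1, 0, 1, 3, 1, 0, 1, 2, 1, 0, 1, 3, 1, 2, 1, 0, 1],
   [1, 0, 1, 3, 1, 2, 1, 3, 1, 3, 1, 0, 2, 1, 0, 1, 3],
   [1, 0, 1, 3, 1, 3, 1, 0, 1, 2, 3, 1, 0, 1, 0, 2, 3],
   [1, 0, 3, 1, 0, 1, 0, 2, 1, 0, 1, 0, 2, 3, 1, 0, 3],
   [1, 0, 3, 1, 0, 1, 0, 2, 1, 0, 1, 0, 2, 3, 1, 3, 1],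
   [1, 0, 3, 1, 0, 1, 2, 1, 0, 3, 1, 3, 1, 0, 1, 0, 3],
   [1, 0, 3, 1, 0, 1, 2, 1, 3, 1, 2, 1, 0, 1, 2, 1, 3],
   [1, 0, 3, 1, 0, 1, 3, 1, 0, 1, 3, 1, 2, 3, 1, 0, 1],
   [1, 0, 3, 1, 0, 1, 3, 1, 0, 1, 3, 1, 2, 3, 1, 0, 2],
   [1, 0, 3, 1, 0, 2, 3, 1, 2, 1, 3, 1, 0, 1, 0, 1, 2],
   [1, 0, 3, 1, 0, 3, 1, 2, 1, 3, 1, 0, 1, 0, 1, 0, 1],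
   [1, 0, 3, 1, 0, 3, 1, 2, 1, 3, 1, 0, 1, 0, 1, 0, 2],
   [1, 0, 3, 1, 0, 3, 1, 2, 1, 3, 1, 0, 1, 0, 3, 1, 3],
   [1, 0, 3, 1, 0, 3, 1, 2, 1, 3, 1, 0, 1, 2, 1, 0, 1],
   [1, 0, 3, 1, 2, 1, 3, 1, 0, 1, 0, 1, 0, 1, 0, 1, 0],
   [1, 0, 3, 1, 2, 1, 3, 1, 0, 1, 0, 1, 0, 1, 0, 1, 2],
   [1, 0, 3, 1, 2, 1, 3, 1, 0, 1, 0, 1, 0, 1, 0, 2, 1],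
   [1, 0, 3, 1, 2, 1, 3, 1, 0, 1, 0, 1, 0, 1, 2, 1, 2],
   [1, 0, 3, 1, 3, 1, 2, 1, 0, 1, 3, 1, 2, 3, 1, 2, 1],
   [1, 0, 3, 1, 3, 1, 2, 1, 0, 1, 3, 1, 3, 1, 2, 1, 0],
   [1, 3, 1, 0, 1, 0, 1, 0, 1, 0, 1, 0, 1, 2, 1, 0, 3],
   [1, 3, 1, 0, 1, 0, 3, 1, 0, 3, 1, 0, 1, 3, 1, 0, 3],
   [1, 3, 1, 0, 1, 0, 3, 1, 0, 3, 1, 0, 1, 3, 1, 2, 3],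
   [1, 3, 1, 0, 1, 0, 3, 1, 0, 3, 1, 0, 1, 3, 1, 3, 1],
   [1, 3, 1, 0, 1, 2, 1, 2, 3, 1, 2, 3, 1, 0, 1, 0, 3],
   [1, 3, 1, 0, 1, 2, 1, 2, 3, 1, 2, 3, 1, 0, 1, 2, 3],
   [1, 3, 1, 0, 1, 2, 3, 1, 0, 2, 3, 1, 0, 2, 3, 1, 3],
   [1, 3, 1, 2, 3, 1, 0, 3, 1, 0, 2, 1, 2, 3, 1, 0, 3],
   [1, 3, 1, 2, 3, 1, 3, 1, 2, 1, 0, 1, 3, 1, 0, 2, 3],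
   [1, 0, 1, 0, 1, 0, 1, 0, 1, 0, 3, 1, 2, 1, 0, 3, 1, 0],
   [1, 0, 1, 0, 1, 0, 1, 0, 1, 0, 3, 1, 2, 1, 0, 3, 1, 2],
   [1, 0, 1, 0, 1, 3, 1, 2, 3, 1, 3, 1, 2, 1, 0, 3, 1, 0],
   [1, 0, 1, 0, 1, 3, 1, 3, 1, 0, 1, 2, 1, 3, 1, 0, 3, 1],
   [1, 0, 1, 2, 1, 3, 1, 0, 1, 0, 3, 1, 0, 2, 1, 3, 1, 2],
   [1, 0, 1, 3, 1, 3, 1, 0, 1, 2, 3, 1, 0, 1, 0, 2, 3, 1],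
   [1, 0, 3, 1, 0, 1, 2, 1, 0, 3, 1, 3, 1, 0, 1, 0, 3, 1],
   [1, 0, 3, 1, 0, 3, 1, 2, 1, 3, 1, 0, 1, 0, 1, 0, 1, 2],
   [1, 0, 3, 1, 2, 3, 1, 0, 2, 3, 1, 0, 3, 1, 0, 3, 1, 3],
   [1, 3, 1, 0, 1, 0, 2, 3, 1, 0, 1, 2, 1, 0, 1, 3, 1, 3]]

end CfsgLib.Sporadic.CosetCert.J3Data
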